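import Cfsg.Agent.ChevAut.ReeF4Out.Norm
import Cfsg.Agent.ChevAut.Hua

/-!
The action of a normalised automorphism of `²F₄` on the parameters.
-/

set_option autoImplicit false
set_option maxRecDepth 100000
set_option maxHeartbeats 1000000

namespace Cfsg.Agent.Chev

open Cfsg.Lie
open scoped MatrixGroups

universe u

namespace ReeF4

theorem cartan_w0 : ∀ r : Fin chevF4.nroots, ∀ j : Fin chevF4.rank,
    chevF4.cartan j (pW (wd 15) r : ℕ) = -chevF4.cartan j (r : ℕ) := by decide +kernel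

theorem cols24 : ([0, 1, 2, 3] : List (Fin 4)).map (fun j : Fin 4 => chevF4.cartan j 24) =
    [0, 0, -1, 2] := by decide +kernel

variable {K : Type u} [Field K] [CharP K 2] {m : ℕ}

theorem add_self (x : K) : x + x = 0 := CharTwo.add_self_eq_zero x

theorem eq_of_add_eq_zero {x y : K} (h : x + y = 0) : x = y := by
  linear_combination h - y * two_eq (K := K)

theorem yA_zero : yA m (0 : K) = 1 := by rw [yA, map_zero, W2_zero]

theorem yA_inv (t : K) : (yA m t)⁻¹ = yA m t :=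
  inv_eq_of_mul_eq_one_right (by rw [yA_add, add_self, yA_zero])

theorem yA_inj {t t' : K} (h : yA m t = yA m t') : t = t' := (W2_injective h).2

theorem yB_zero : yB m (0 : K) 0 = 1 := by simp [yB, W4_zero]

theorem yB_inj {t u t' u' : K} (h : yB m t u = yB m t' u') : t = t' ∧ u = u' := by
  obtain ⟨-, h2, h3, -⟩ := W4_injective h
  subst h2
  exact ⟨rfl, add_left_cancel h3⟩

theorem yB_mul (hm : IsTheta K m) (t u t' u' : K) :
    yB m t u * yB m t' u' = yB m (t + t') (u + u' + th K m t * t') := by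
  obtain ⟨T, U, e⟩ := mem_fm_B (Subgroup.mul_mem _ (yB_mem_fm hm t u) (yB_mem_fm hm t' u'))
  rw [e]
  rw [yB, yB, yB, W4_mul] at e
  obtain ⟨-, h2, h3, -⟩ := W4_injective e
  subst h2
  congr 1
  rw [map_add] at h3
  linear_combination -h3 - (th K m t * t') * two_eq (K := K)

theorem yB_inv0 (hm : IsTheta K m) (u : K) : (yB m 0 u)⁻¹ = yB m 0 u :=
  inv_eq_of_mul_eq_one_right (by rw [yB_mul hm, add_self, map_zero, zero_mul, add_zero, add_self,
    yB_zero])

theorem tor_conj_yA (hm : IsTheta K m) (p : Kˣ × Kˣ) (t : K) :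
    tor m p * yA m t * (tor m p)⁻¹ = yA m (((p.1 ^ 2 * p.2⁻¹ : Kˣ) : K) * t) := by
  obtain ⟨t', ht'⟩ := mem_fm_A (torus_conj_fm hm ⟨p, rfl⟩ (yA_mem_fm hm t))
  rw [ht']
  obtain ⟨a, b⟩ := p
  set c := tv (Units.map (th K m).toMonoidHom a) (Units.map (th K m).toMonoidHom b) b a with hc
  have e : tor m (a, b) * yA m t * (tor m (a, b))⁻¹ =
      W2 ((chiU c 33 : K) * th K m t) ((chiU c 24 : K) * t) := by
    show torusHom c * W2 (th K m t) t * (torusHom c)⁻¹ = _
    rw [W2, W2, ← mul_assoc, torusHom_conj facts_chevF4 c (r := 33) (by decide),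
      mul_assoc _ (torusHom c), torusHom_conj facts_chevF4 c (r := 24) (by decide), ← mul_assoc,
      mul_inv_cancel_right]
  rw [ht'] at e
  obtain ⟨-, h2⟩ := W2_injective e
  rw [h2]
  have h := cols24
  simp only [List.map_cons, List.map_nil, List.cons.injEq, and_true] at h
  have : chiU c 24 = a ^ 2 * b⁻¹ := by
    show ∏ j : Fin 4, c j ^ chevF4.cartan j 24 = _
    rw [Fin.prod_univ_four, h.1, h.2.1, h.2.2.1, h.2.2.2]
    simp [hc, tv, mul_comm]
  rw [this]

theorem tor_conj_yB (hm : IsTheta K m) (p : Kˣ × Kˣ) (t u : K) :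
    tor m p * yB m t u * (tor m p)⁻¹ =
      yB m (((p.2 : K) ^ 2 / ((p.1 : K) * th K m p.2 ^ 2)) * t)
        (((p.2 : K) / ((p.1 : K) * th K m p.1)) * u) := by
  obtain ⟨t', u', ht'⟩ := mem_fm_B (torus_conj_fm hm ⟨p, rfl⟩ (yB_mem_fm hm t u))
  rw [ht']
  obtain ⟨a, b⟩ := p
  set c := tv (Units.map (th K m).toMonoidHom a) (Units.map (th K m).toMonoidHom b) b a with hc
  change torusHom c * W4 _ _ _ _ * (torusHom c)⁻¹ = W4 _ _ _ _ at ht'
  obtain ⟨h25, h28⟩ := cols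
  simp only [List.map_cons, List.map_nil, List.cons.injEq, and_true] at h25 h28
  have k25 : (chiU c 25 : K) = (b : K) ^ 2 / ((a : K) * th K m b ^ 2) := by
    have : chiU c 25 = b ^ 2 * (a * Units.map (th K m).toMonoidHom b ^ 2)⁻¹ := by
      show ∏ j : Fin 4, c j ^ chevF4.cartan j 25 = _
      rw [Fin.prod_univ_four, h25.1, h25.2.1, h25.2.2.1, h25.2.2.2]
      simp [hc, tv, inv_pow, mul_comm, mul_left_comm]
    rw [this]
    simp [div_eq_mul_inv, mul_comm]
  have k28 : (chiU c 28 : K) = (b : K) / ((a : K) * th K m a) := by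
    have : chiU c 28 = b * (a * Units.map (th K m).toMonoidHom a)⁻¹ := by
      show ∏ j : Fin 4, c j ^ chevF4.cartan j 28 = _
      rw [Fin.prod_univ_four, h28.1, h28.2.1, h28.2.2.1, h28.2.2.2]
      simp [hc, tv, mul_comm, mul_left_comm]
    rw [this]
    simp [div_eq_mul_inv, mul_comm]
  rw [torus_conj_W4, k25, k28] at ht'
  obtain ⟨-, h2, h3, -⟩ := W4_injective ht'
  subst h2
  congr 1
  simp only [map_mul, map_div₀, map_pow] at h3
  have ha := th_th hm (a : K)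
  have hb := th_th hm (b : K)
  have hb0 : th K m (th K m (b : K)) ≠ 0 := by simp
  have e1 : (b : K) / ((a : K) * th K m a) * (th K m t * t) =
      th K m (b : K) ^ 2 / (th K m (a : K) * th K m (th K m (b : K)) ^ 2) * th K m t *
        ((b : K) ^ 2 / ((a : K) * th K m (b : K) ^ 2) * t) := by
    rw [hb]
    field_simp
  linear_combination -h3 + e1

theorem n0_tor (p : Kˣ × Kˣ) : n0 * tor m p = tor m p⁻¹ * (n0 : GL chevF4.Idx K) := by
  refine torus_conj (flat (wd 15)) rfl fun r => ?_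
  show ∏ j : Fin chevF4.rank, _ = ∏ j : Fin chevF4.rank, _
  refine Finset.prod_congr rfl fun j _ => ?_
  rw [show (pWord facts_chevF4.{u} (flat (wd 15)) r : ℕ) = (pW (wd 15) r : ℕ) from rfl,
    cartan_w0 r j, zpow_neg, ← inv_zpow]
  congr 1
  simp only [Prod.fst_inv, Prod.snd_inv, map_inv, tv]
  split_ifs <;> simp

theorem nA_def (t : Kˣ) :
    yA m (t : K) * (sO 0 * yA m (t : K)⁻¹ * sO 0) * yA m (t : K) = tor m (t, 1) * sO 0 := by
  rw [nA_eq]
  have e1 : (sO 0 : GL chevF4.Idx K) = nG facts_chevF4 33 1 * nG facts_chevF4 24 1 := by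
    show nG facts_chevF4 (chevF4.simple 0) (1 : K) * (nG facts_chevF4 (chevF4.simple 3) 1 * 1) = _
    rw [simple_vals.1, simple_vals.2.2.2, mul_one]
  have e2 : ∀ r (s : K), nG facts_chevF4 r s * nG facts_chevF4 r 1 = hG facts_chevF4 r s :=
    fun r s => by rw [hG, neg_eq]
  have e : (tor m (t, 1) : GL chevF4.Idx K) =
      nG facts_chevF4 33 (th K m (t : K)) * nG facts_chevF4 24 (t : K) * sO 0 := by
    rw [e1, show ∀ a b c d : GL chevF4.Idx K, a * b * (c * d) = a * (b * c) * d from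
        fun a b c d => by group, ← (commute_nG_A (1 : K) (t : K)).eq,
      show ∀ a b c d : GL chevF4.Idx K, a * (b * c) * d = a * b * (c * d) from
        fun a b c d => by group, e2, e2]
    show torusHom _ = _
    rw [← simple_vals.1, ← simple_vals.2.2.2,
      show th K m (t : K) = ((Units.map (th K m).toMonoidHom t : Kˣ) : K) from rfl,
      hG_simple facts_chevF4 (i := 0) (by decide), hG_simple facts_chevF4 (i := 3) (by decide),
      coH_simple facts_chevF4 (i := 0) (by decide), coH_simple facts_chevF4 (i := 3) (by decide),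
      ← map_mul]
    congr 1
    funext i
    fin_cases i <;> simp [tv, Pi.mulSingle_apply, Fin.ext_iff]
  rw [e, mul_assoc _ (sO 0) (sO 0), sO_sq, mul_one]

theorem zA_nf {q : K} (hq : q ≠ 0) : sO 0 * yA m q * sO 0 =
    yA m q⁻¹ * (tor m (Units.mk0 q⁻¹ (inv_ne_zero hq), 1) * sO 0) * yA m q⁻¹ := by
  rw [← nA_def (Units.mk0 q⁻¹ (inv_ne_zero hq)), Units.val_mk0, inv_inv,
    show ∀ a x : GL chevF4.Idx K, a * (a * x * a) * a = (a * a) * x * (a * a) from
      fun a x => by group, yA_add, add_self, yA_zero, one_mul, mul_one]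

section Finite

variable [Fintype K] (hK : Fintype.card K = 2 ^ (2 * m + 1))
include hK

theorem nfA_unique {e f e' f' : K} {p p' : Kˣ}
    (h : yA m e * (tor m (p, 1) * sO 0) * yA m f = yA m e' * (tor m (p', 1) * sO 0) * yA m f') :
    e = e' ∧ p = p' ∧ f = f' := by
  have hm := isTheta hK
  have hb : ∀ (x : K) (q : Kˣ), yA m x * tor m (q, 1) ∈ chevF4.borelSubgroup K := fun x q =>
    Subgroup.mul_mem _ (Subgroup.mem_sup_left (fm_le_U1 _ (yA_mem_fm hm x)).1)
      (Subgroup.mem_sup_right (tor_mem_diagonal _))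
  have hx : ∀ x : K,
      yA m x ∈ uMinus facts_chevF4 (monPerm facts_chevF4.{u} (sO 0 : GL chevF4.Idx K)) := fun x => by
    rw [monPerm_eq facts_chevF4 (isMon_sO 0)]
    exact (yA_mem_fm hm x).1
  simp only [← mul_assoc] at h
  obtain ⟨h1, h2⟩ := (normalForm_unique facts_chevF4 (hb e p) (hb e' p') (sO_mem_monomial 0)
    (sO_mem_monomial 0) (hx f) (hx f') h).2 rfl
  obtain ⟨h3, h4⟩ := posUnipotent_torus_unique facts_chevF4 (fm_le_U1 _ (yA_mem_fm hm e)).1
    (fm_le_U1 _ (yA_mem_fm hm e')).1 h1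
  exact ⟨yA_inj h3, congrArg Prod.fst (tor_injective (a₁ := (p, 1)) (a₂ := (p', 1)) h4),
    yA_inj h2⟩

theorem T1_conj_gM {h : GL chevF4.Idx K} (hh : h ∈ T1 K m) {a : Fin 2} {y : GL chevF4.Idx K}
    (hy : y ∈ fm K m (wA a)) :
    ∃ y' ∈ fm K m (wA a), h * (sO a * y * sO a) * h⁻¹ = sO a * y' * sO a := by
  refine ⟨_, torus_conj_fm (isTheta hK) (T1_conj_n0 hK hh) hy, ?_⟩
  rw [← n0_conj_fm hy, ← n0_conj_fm (torus_conj_fm (isTheta hK) (T1_conj_n0 hK hh) hy)]
  rw [mul_inv_rev, mul_inv_rev, n0_inv,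
    show n0 * (n0 * h * n0 * y * (n0 * (h⁻¹ * n0))) * n0 =
      (n0 * n0) * h * n0 * y * n0 * h⁻¹ * (n0 * n0) by group, n0_sq]
  group

theorem rank_one_unique {A B C : K} (hC : C ≠ 0)
    (h : ∃ r, yA m A * (sO 0 * yA m B * sO 0) * yA m A * yA m C *
      (yA m A * (sO 0 * yA m B * sO 0) * yA m A)⁻¹ = sO 0 * yA m r * sO 0) : B = A⁻¹ := by
  have hm := isTheta hK
  obtain ⟨r, hr⟩ := h
  by_cases hB : B = 0
  · exfalso
    subst hB
    rw [yA_zero, mul_one, sO_sq, mul_one, yA_add, add_self, yA_zero, one_mul, inv_one, mul_one]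
      at hr
    have h2 : yA m C = 1 := U1_V1 (fm_le_U1 _ (yA_mem_fm hm C)) (by
      rw [hr]; exact conjFm_mem_V1 (yA_mem_fm hm r))
    exact hC (yA_inj (h2.trans yA_zero.symm))
  obtain ⟨s, hs⟩ : ∃ s : Kˣ, (s : K) = B⁻¹ := ⟨Units.mk0 _ (inv_ne_zero hB), rfl⟩
  set d := A + (s : K) with hd
  have eM : yA m A * (sO 0 * yA m B * sO 0) * yA m A =
      yA m d * (tor m (s, 1) * sO 0) * yA m d := by
    have e1 : sO 0 * yA m B * sO 0 = yA m (s : K) * (tor m (s, 1) * sO 0) * yA m (s : K) := by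
      rw [← nA_def s, hs, inv_inv, show ∀ a x : GL chevF4.Idx K, a * (a * x * a) * a =
        (a * a) * x * (a * a) from fun a x => by group, yA_add, add_self, yA_zero, one_mul, mul_one]
    rw [e1, hd, show yA m A * (yA m (s : K) * (tor m (s, 1) * sO 0) * yA m (s : K)) * yA m A =
      (yA m A * yA m (s : K)) * (tor m (s, 1) * sO 0) * (yA m (s : K) * yA m A) by group, yA_add,
      yA_add, add_comm (s : K) A]
  obtain ⟨y', hy', ey⟩ := T1_conj_gM hK (h := tor m (s, 1)) ⟨_, rfl⟩ (yA_mem_fm hm C) (a := 0)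
  obtain ⟨q, rfl⟩ := mem_fm_A hy'
  have e3 : yA m d * (sO 0 * yA m q * sO 0) * yA m d = sO 0 * yA m r * sO 0 := by
    rw [← hr, eM, ← ey]
    have e4 : yA m d * yA m C * (yA m d)⁻¹ = yA m C := by
      rw [yA_inv, yA_add, yA_add]; congr 1; linear_combination d * two_eq (K := K)
    rw [show yA m d * (tor m (s, 1) * sO 0) * yA m d * yA m C *
      (yA m d * (tor m (s, 1) * sO 0) * yA m d)⁻¹ = yA m d * (tor m (s, 1) * ((sO 0) *
        (yA m d * yA m C * (yA m d)⁻¹) * (sO 0)⁻¹) * (tor m (s, 1))⁻¹) * (yA m d)⁻¹ by group,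
      e4, sO_inv, yA_inv]
  have hq : q ≠ 0 := by
    rintro rfl
    rw [yA_zero, mul_one, sO_sq, conj_eq_one_iff] at ey
    have h2 := congrArg (fun z => sO 0 * z * sO 0) ey
    simp only [sO_sO, mul_one, sO_sq] at h2
    exact hC (yA_inj (h2.trans yA_zero.symm))
  have hr0 : r ≠ 0 := by
    rintro rfl
    rw [yA_zero, mul_one, sO_sq] at e3
    have h2 : sO 0 * yA m q * sO 0 = 1 := by
      rw [show sO 0 * yA m q * sO 0 =
        (yA m d)⁻¹ * (yA m d * (sO 0 * yA m q * sO 0) * yA m d) * (yA m d)⁻¹ by group, e3,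
        mul_one, yA_inv, yA_add, add_self, yA_zero]
    have h3 := congrArg (fun z => sO 0 * z * sO 0) h2
    simp only [sO_sO, mul_one, sO_sq] at h3
    exact hq (yA_inj (h3.trans yA_zero.symm))
  rw [zA_nf hq, zA_nf hr0, show yA m d * (yA m q⁻¹ * (tor m (Units.mk0 q⁻¹ (inv_ne_zero hq), 1) *
      sO 0) * yA m q⁻¹) * yA m d = (yA m d * yA m q⁻¹) *
      (tor m (Units.mk0 q⁻¹ (inv_ne_zero hq), 1) * sO 0) * (yA m q⁻¹ * yA m d) by group,
    yA_add, yA_add] at e3
  obtain ⟨h1, h2, -⟩ := nfA_unique hK e3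
  have hqr : q⁻¹ = r⁻¹ := congrArg Units.val h2
  have hd0 : d = 0 := by rwa [hqr, add_eq_right] at h1
  rw [eq_of_add_eq_zero (hd.symm.trans hd0), hs, inv_inv]

/-- A root element of the first kind. -/
noncomputable def gA (t : K) : ↥(twistedF4 K (2 ^ m)) := gP hK (yA_mem_fm (isTheta hK) t)

/-- An opposite root element of the first kind. -/
noncomputable def hA (t : K) : ↥(twistedF4 K (2 ^ m)) := gM hK (yA_mem_fm (isTheta hK) t)

/-- A root element of the second kind. -/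
noncomputable def gB (t u : K) : ↥(twistedF4 K (2 ^ m)) := gP hK (yB_mem_fm (isTheta hK) t u)

/-- An opposite root element of the second kind. -/
noncomputable def hB (t u : K) : ↥(twistedF4 K (2 ^ m)) := gM hK (yB_mem_fm (isTheta hK) t u)

/-- A torus element. -/
noncomputable def gT (p : Kˣ × Kˣ) : ↥(twistedF4 K (2 ^ m)) :=
  ⟨tor m p, T1_le_G1 hK ⟨p, rfl⟩⟩

/-- A fundamental monomial element. -/
def gS (a : Fin 2) : ↥(twistedF4 K (2 ^ m)) := sG hK a

variable {θ : ↥(twistedF4 K (2 ^ m)) ≃* ↥(twistedF4 K (2 ^ m))}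

theorem Norm.exists_sigma (h : Norm hK θ) : ∃ (c : Kˣ) (σ : K ≃+* K),
    ∀ t, θ (gA hK t) = gA hK ((c : K) * σ t) ∧ θ (hA hK t) = hA hK ((c : K)⁻¹ * σ t) := by
  have hm := isTheta hK
  have hexf : ∀ t : K, ∃ u : K, θ (gA hK t) = gA hK u := fun t => by
    obtain ⟨y, hy, e⟩ := h.map_gP hK (yA_mem_fm hm t)
    obtain ⟨u, rfl⟩ := mem_fm_A hy
    exact ⟨u, e⟩
  have hexg : ∀ t : K, ∃ u : K, θ (hA hK t) = hA hK u := fun t => by
    obtain ⟨y, hy, e⟩ := h.map_gM hK (yA_mem_fm hm t)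
    obtain ⟨u, rfl⟩ := mem_fm_A hy
    exact ⟨u, e⟩
  choose f hf using hexf
  choose g hg using hexg
  have injA : ∀ {t u : K}, gA hK t = gA hK u → t = u := fun e => yA_inj (congrArg Subtype.val e)
  have injA' : ∀ {t u : K}, hA hK t = hA hK u → t = u := fun {t u} e => by
    have := congrArg (fun z => sO 0 * (z : ↥(twistedF4 K (2 ^ m))).1 * sO 0) e
    simp only [hA, gM, sO_sO] at this
    exact yA_inj this
  have mulA : ∀ t u, gA hK (t + u) = gA hK t * gA hK u := fun t u =>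
    Subtype.ext (yA_add t u).symm
  have mulA' : ∀ t u, hA hK (t + u) = hA hK t * hA hK u := fun t u => Subtype.ext (by
    show sO 0 * yA m (t + u) * sO 0 = sO 0 * yA m t * sO 0 * (sO 0 * yA m u * sO 0)
    rw [← conj_mul, yA_add])
  have fadd : ∀ t u, f (t + u) = f t + f u := fun t u =>
    injA (by rw [← hf, mulA, map_mul, hf, hf, mulA])
  have gadd : ∀ t u, g (t + u) = g t + g u := fun t u =>
    injA' (by rw [← hg, mulA', map_mul, hg, hg, mulA'])
  have fbij : Function.Bijective f := Finite.injective_iff_bijective.1 fun t u e =>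
    injA (θ.injective (by rw [hf, hf, e]))
  have hf0 : ∀ t, t ≠ 0 → f t ≠ 0 := fun t ht e =>
    ht (fbij.1 (e.trans (AddMonoidHom.map_zero (AddMonoidHom.mk' f fadd)).symm))
  have hrel : ∀ t, t ≠ 0 → g t⁻¹ = (f t)⁻¹ := by
    intro t ht
    refine rank_one_unique hK (hf0 1 one_ne_zero) ?_
    set M : ↥(twistedF4 K (2 ^ m)) := gA hK t * hA hK t⁻¹ * gA hK t
    have hM : (M : GL chevF4.Idx K) = tor m (Units.mk0 t ht, 1) * sO 0 :=
      nA_def (m := m) (Units.mk0 t ht)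
    obtain ⟨y', hy', ey⟩ := T1_conj_gM hK (h := tor m (Units.mk0 t ht, 1)) ⟨_, rfl⟩ (a := 0)
      (yA_mem_fm hm (1 : K))
    obtain ⟨q, rfl⟩ := mem_fm_A hy'
    have e2 : M * gA hK 1 * M⁻¹ = hA hK q := Subtype.ext (by
      show (M : GL chevF4.Idx K) * yA m 1 * (M : GL chevF4.Idx K)⁻¹ = sO 0 * yA m q * sO 0
      rw [hM, ← ey, mul_inv_rev, sO_inv]; group)
    have e3 := congrArg (fun z => (θ z : GL chevF4.Idx K)) e2
    simp only [M, map_mul, map_inv, hf, hg] at e3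
    exact ⟨g q, e3⟩
  have hc := hf0 1 one_ne_zero
  obtain ⟨σ, hσ⟩ := ChevAut.exists_fieldAut (F := K) (f := fun t => (f 1)⁻¹ * f t)
    (g := fun t => f 1 * g t) ((mulLeft_bijective₀ _ (inv_ne_zero hc)).comp fbij)
    (fun t u => by rw [fadd, mul_add]) (fun t u => by rw [gadd, mul_add])
    (inv_mul_cancel₀ hc) (fun t ht => by
      rw [neg_eq, neg_eq, hrel t ht, mul_inv, inv_inv])
  refine ⟨Units.mk0 (f 1) hc, σ, fun t => ⟨?_, ?_⟩⟩
  · rw [hf, ← (hσ t).1, Units.val_mk0, mul_inv_cancel_left₀ hc]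
  · rw [hg, ← (hσ t).2, Units.val_mk0, inv_mul_cancel_left₀ hc]

/-- A normalised automorphism fixing the first fundamental root subgroup. -/
def FixA (θ : ↥(twistedF4 K (2 ^ m)) ≃* ↥(twistedF4 K (2 ^ m))) : Prop :=
  Norm hK θ ∧ ∀ t, θ (gA hK t) = gA hK t

theorem FixA.fix_hA (h : FixA hK θ) (t : K) : θ (hA hK t) = hA hK t := by
  obtain ⟨c, σ, hs⟩ := h.1.exists_sigma hK
  have key : ∀ t, (c : K) * σ t = t := fun t =>
    yA_inj (congrArg Subtype.val ((hs t).1.symm.trans (h.2 t)))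
  have hc : (c : K) = 1 := by simpa using key 1
  rw [(hs t).2, hc, inv_one, one_mul, show σ t = t by simpa [hc] using key t]

theorem FixA.fix_gS (h : FixA hK θ) : θ (gS hK 0) = gS hK 0 := by
  have e : gS hK 0 = gA hK (1 : K) * hA hK (1 : K)⁻¹ * gA hK (1 : K) := Subtype.ext (by
    show sO 0 = yA m (1 : K) * (sO 0 * yA m (1 : K)⁻¹ * sO 0) * yA m 1
    have := nA_def (m := m) (1 : Kˣ)
    rw [Units.val_one] at this
    rw [this, show ((1 : Kˣ), (1 : Kˣ)) = 1 from rfl, map_one, one_mul])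
  rw [e, map_mul, map_mul, h.2, h.fix_hA hK]

theorem FixA.fix_gT (h : FixA hK θ) (a : Kˣ) : θ (gT hK (a, 1)) = gT hK (a, 1) := by
  have e : gT hK (a, 1) = gA hK (a : K) * hA hK (a : K)⁻¹ * gA hK (a : K) * gS hK 0 :=
    Subtype.ext (by
      show tor m (a, 1) = yA m (a : K) * (sO 0 * yA m (a : K)⁻¹ * sO 0) * yA m (a : K) * sO 0
      rw [nA_def, mul_assoc, sO_sq, mul_one])
  rw [e]
  simp only [map_mul, h.2, h.fix_hA hK, h.fix_gS hK]

omit θ in
theorem exists_theta_ne (hm1 : 1 ≤ m) : ∃ t : K, th K m (th K m t) ≠ t := by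
  classical
  have h8 : 2 < (Finset.univ : Finset K).card := by
    rw [Finset.card_univ, hK]
    have : 2 ^ 3 ≤ 2 ^ (2 * m + 1) := Nat.pow_le_pow_right two_pos (by omega)
    omega
  obtain ⟨x, hx⟩ : ∃ x : K, x ∉ ({0, 1} : Finset K) := by
    by_contra hc
    push Not at hc
    have h1 := Finset.card_le_card (s := (Finset.univ : Finset K)) (t := {0, 1}) fun x _ => hc x
    have h2 : ({0, 1} : Finset K).card ≤ 2 := Finset.card_le_two
    omega
  simp only [Finset.mem_insert, Finset.mem_singleton, not_or] at hx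
  refine ⟨x ^ 2, fun e => hx.2 ?_⟩
  rw [map_pow, map_pow, th_th (isTheta hK), pow_two] at e
  exact (mul_eq_left₀ hx.1).1 e.symm

theorem FixA.exists_scal (hm1 : 1 ≤ m) (h : FixA hK θ) :
    ∃ c : Kˣ, ∀ t u, θ (gB hK t u) = gB hK ((c : K) * t) (th K m (c : K) * c * u) := by
  have hm := isTheta hK
  have hex : ∀ t : K, ∃ p : K × K, θ (gB hK t 0) = gB hK p.1 p.2 := fun t => by
    obtain ⟨y, hy, e⟩ := h.1.map_gP hK (yB_mem_fm hm t 0)
    obtain ⟨t', u', rfl⟩ := mem_fm_B hy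
    exact ⟨(t', u'), e⟩
  choose P hP using hex
  have inj : ∀ {t u t' u' : K}, gB hK t u = gB hK t' u' → t = t' ∧ u = u' :=
    fun e => yB_inj (congrArg Subtype.val e)
  have mulB : ∀ t u t' u', gB hK t u * gB hK t' u' = gB hK (t + t') (u + u' + th K m t * t') :=
    fun t u t' u' => Subtype.ext (yB_mul hm t u t' u')
  have oneB : gB hK (0 : K) 0 = 1 := Subtype.ext yB_zero
  have torB : ∀ (a : Kˣ) (t u : K), gT hK (a, 1) * gB hK t u * (gT hK (a, 1))⁻¹ =
      gB hK ((a : K)⁻¹ * t) (((a : K) * th K m a)⁻¹ * u) := fun a t u => Subtype.ext (by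
    show tor m (a, 1) * yB m t u * (tor m (a, 1))⁻¹ = yB m _ _
    rw [tor_conj_yB hm]
    simp [div_eq_mul_inv])
  set c := (P 1).1 with hc
  set d := (P 1).2 with hd
  have hPx : ∀ x : K, P x = (c * x, d * (th K m x * x)) := by
    intro x
    rcases eq_or_ne x 0 with rfl | hx
    · have h1 := hP 0
      rw [oneB, map_one, ← oneB] at h1
      obtain ⟨h2, h3⟩ := inj h1
      rw [mul_zero, mul_zero, mul_zero]
      exact Prod.ext h2.symm h3.symm
    have h1 := congrArg θ (torB (Units.mk0 x⁻¹ (inv_ne_zero hx)) 1 0)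
    rw [Units.val_mk0, inv_inv, mul_one, mul_zero, map_mul, map_mul, map_inv, h.fix_gT hK, hP,
      hP, torB] at h1
    obtain ⟨h2, h3⟩ := inj h1
    rw [Units.val_mk0, inv_inv, ← hc] at h2
    rw [Units.val_mk0, ← hd, map_inv₀, mul_inv, inv_inv, inv_inv] at h3
    exact Prod.ext (by rw [← h2]; ring) (by rw [← h3]; ring)
  let R : K → K := fun x => th K m c * c * x + d * (th K m x + x)
  have hR : ∀ x, θ (gB hK 0 x) = gB hK 0 (R x) := by
    intro x
    have e1 : gB hK 1 0 * gB hK x 0 = gB hK (1 + x) 0 * gB hK 0 x := by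
      rw [mulB, mulB]; simp
    have e2 := congrArg θ e1
    rw [map_mul, map_mul, hP, hP, hP, hPx, hPx, hPx] at e2
    refine mul_left_cancel (a := gB hK (c * (1 + x)) (d * (th K m (1 + x) * (1 + x)))) ?_
    rw [← e2, mulB, mulB]
    congr 1
    · ring
    · simp only [R, map_add, map_one, map_mul]
      linear_combination -(d * (th K m x + x)) * two_eq (K := K)
  have hd0 : d = 0 := by
    obtain ⟨t, ht⟩ := exists_theta_ne hK hm1
    have e1 : gB hK t 0 * gB hK 1 0 = gB hK (t + 1) 0 * gB hK 0 (th K m t) := by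
      rw [mulB, mulB]; simp
    have e2 := congrArg θ e1
    rw [map_mul, map_mul, hP, hP, hP, hR, hPx, hPx, hPx, mulB, mulB] at e2
    obtain ⟨-, e3⟩ := inj e2
    simp only [R, map_add, map_one, map_mul] at e3
    have e4 : d * (th K m (th K m t) + t) = 0 := by
      linear_combination -e3 - (d * th K m t) * two_eq (K := K)
    rcases mul_eq_zero.1 e4 with e5 | e5
    · exact e5
    · exact absurd (eq_of_add_eq_zero e5) ht
  have hgen : ∀ t u, θ (gB hK t u) = gB hK (c * t) (th K m c * c * u) := by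
    intro t u
    have e : gB hK t u = gB hK t 0 * gB hK 0 u := by rw [mulB]; simp
    rw [e, map_mul, hP, hPx, hR, mulB]
    simp [R, hd0]
  have hc0 : c ≠ 0 := by
    intro e
    have h1 := hgen 0 1
    simp only [e, map_zero, zero_mul, oneB] at h1
    exact one_ne_zero (inj ((θ.injective (h1.trans (map_one θ).symm)).trans oneB.symm)).2
  exact ⟨Units.mk0 c hc0, hgen⟩

omit θ in
theorem gN0_conj_A (t : K) :
    gN0 hK * hA hK t * (gN0 hK)⁻¹ = gA hK t ∧ gN0 hK * gA hK t * (gN0 hK)⁻¹ = hA hK t :=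
  gN0_conj hK (yA_mem_fm (isTheta hK) t)

theorem FixA.flip (h : FixA hK θ) :
    FixA hK (((MulAut.conj (gN0 hK)).trans θ).trans (MulAut.conj (gN0 hK))) := by
  refine ⟨h.1.flip hK, fun t => ?_⟩
  simp only [MulEquiv.trans_apply, MulAut.conj_apply]
  rw [(gN0_conj_A hK t).2, h.fix_hA hK, (gN0_conj_A hK t).1]

theorem FixA.eq_one (hm1 : 1 ≤ m) (h : FixA hK θ)
    (hB1 : ∀ t u, θ (gB hK t u) = gB hK t u) : ∀ x, θ x = x := by
  have hm := isTheta hK
  obtain ⟨c, hc⟩ := (h.flip hK).exists_scal hK hm1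
  -- the action on the opposite pieces of the second kind
  have hneg : ∀ t u, θ (hB hK t u) = hB hK ((c : K) * t) (th K m (c : K) * c * u) := by
    intro t u
    have e := hc t u
    simp only [MulEquiv.trans_apply, MulAut.conj_apply] at e
    have k : ∀ t u, gN0 hK * gB hK t u * (gN0 hK)⁻¹ = hB hK t u := fun t u =>
      (gN0_conj hK (yB_mem_fm hm t u)).2
    rw [k] at e
    rw [← k ((c : K) * t), ← e]
    have hn : gN0 hK * gN0 hK = 1 := Subtype.ext n0_sq
    rw [show gN0 hK * (gN0 hK * θ (hB hK t u) * (gN0 hK)⁻¹) * (gN0 hK)⁻¹ =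
      (gN0 hK * gN0 hK) * θ (hB hK t u) * (gN0 hK * gN0 hK)⁻¹ by group, hn]
    group
  -- a torus element with these scalars
  obtain ⟨b, hb⟩ : ∃ b : Kˣ, (b : K) ^ 2 / th K m (b : K) ^ 2 = c := by
    let φ : Kˣ →* Kˣ :=
      { toFun := fun b => b ^ 2 * (Units.map (th K m).toMonoidHom b ^ 2)⁻¹
        map_one' := by simp
        map_mul' := fun a b => by simp only [map_mul, mul_pow, mul_inv, mul_mul_mul_comm] }
    have hφ : Function.Injective φ := by
      refine (injective_iff_map_eq_one φ).2 fun b hb => ?_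
      have h1 : (b : K) ^ 2 = th K m (b : K) ^ 2 := congrArg Units.val (mul_inv_eq_one.1 hb)
      have h2 : (b : K) = th K m (b : K) := eq_of_add_eq_zero (pow_eq_zero_iff two_ne_zero |>.1 (by
        rw [CharTwo.add_sq, h1, add_self]))
      have h3 := th_th hm (b : K)
      rw [← h2, ← h2, pow_two] at h3
      exact Units.ext ((mul_eq_left₀ (Units.ne_zero b)).1 h3)
    obtain ⟨b, hb⟩ := Finite.injective_iff_surjective.1 hφ c
    exact ⟨b, by rw [← hb]; simp [φ, div_eq_mul_inv]⟩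
  have hbe : th K m (c : K) * c = (b : K) := by
    rw [← hb, map_div₀, map_pow, map_pow]
    have := th_th hm (b : K)
    rw [this]
    field_simp
  set h' : GL chevF4.Idx K := tor m (1, b⁻¹) with hh'
  have hh'T : h' ∈ T1 K m := ⟨_, rfl⟩
  have hs : sO 1 * h'⁻¹ = h' * sO 1 := by
    rw [hh', ← map_inv]
    simpa using sO_tor_right (m := m) b
  -- the negative piece in terms of the torus
  have hz : sO 1 * yB m (c : K) (th K m (c : K) * c) * sO 1 =
      h' * (sO 1 * yB m 1 1 * sO 1) * h'⁻¹ := by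
    have e1 : yB m (c : K) (th K m (c : K) * c) = h'⁻¹ * yB m 1 1 * h'⁻¹⁻¹ := by
      rw [hh', ← map_inv, tor_conj_yB hm, hbe]
      congr 1
      · simp [hb]
      · simp
    have hs2 : h'⁻¹⁻¹ * sO 1 = sO 1 * h'⁻¹ := by rw [inv_inv, hs]
    rw [e1, show sO 1 * (h'⁻¹ * yB m 1 1 * h'⁻¹⁻¹) * sO 1 =
      (sO 1 * h'⁻¹) * yB m 1 1 * (h'⁻¹⁻¹ * sO 1) by group, hs2]
    nth_rewrite 1 [hs]
    group
  set p : GL chevF4.Idx K := yB m 0 1
  set r : GL chevF4.Idx K := yB m 1 0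
  have hz11 : sO 1 * yB m (1 : K) 1 * sO 1 = p * sO 1 * r⁻¹ := by
    have e := sO_one_eq (K := K) (m := m)
    conv_rhs => rw [e]
    rw [show p * (p * (sO 1 * yB m 1 1 * sO 1) * r) * r⁻¹ = (p * p) * (sO 1 * yB m 1 1 * sO 1) by
      group, show p * p = 1 by
        show yB m (0 : K) 1 * yB m 0 1 = 1
        rw [yB_mul hm]; simp [add_self, yB_zero], one_mul]
  set u₀ : GL chevF4.Idx K := yB m 0 (1 + (b : K)⁻¹) with hu₀
  set y₁ : GL chevF4.Idx K := h' * r⁻¹ * h'⁻¹ * r with hy₁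
  have hy₁m : y₁ ∈ fm K m (wA 1) := Subgroup.mul_mem _
    (torus_conj_fm hm hh'T (Subgroup.inv_mem _ (yB_mem_fm hm _ _))) (yB_mem_fm hm _ _)
  have hu₀m : u₀ ∈ fm K m (wA 1) := yB_mem_fm hm _ _
  have hn : (θ (gS hK 1) : GL chevF4.Idx K) = u₀ * (h' * h') * sO 1 * y₁ := by
    have e : gS hK 1 = gB hK 0 1 * hB hK 1 1 * gB hK 1 0 := Subtype.ext (sO_one_eq (m := m))
    rw [e, map_mul, map_mul, hB1, hB1, hneg, mul_one, mul_one]
    show p * (sO 1 * yB m (c : K) (th K m (c : K) * c) * sO 1) * r = _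
    have e2 : p * (h' * p * h'⁻¹) = u₀ := by
      show yB m (0 : K) 1 * (tor m (1, b⁻¹) * yB m 0 1 * (tor m (1, b⁻¹))⁻¹) = u₀
      rw [tor_conj_yB hm, yB_mul hm, hu₀]
      congr 1 <;> simp
    rw [hz, hz11, hy₁, ← e2,
      show p * (h' * p * h'⁻¹) * (h' * h') * sO 1 * (h' * r⁻¹ * h'⁻¹ * r) =
        p * h' * p * h' * (sO 1 * h') * r⁻¹ * h'⁻¹ * r by group]
    have hs3 : sO 1 * h' = h'⁻¹ * sO 1 := by
      rw [eq_inv_mul_iff_mul_eq, ← mul_assoc, ← hs, inv_mul_cancel_right]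
    rw [hs3]
    group
  have hu₀1 : u₀ = 1 := by
    by_contra hne
    obtain ⟨v, hv, b₀, hb₀, e⟩ := cell_map_surjective hK hu₀m hne
    obtain ⟨v', hv', ev⟩ := T1_conj_gM hK (Subgroup.inv_mem _
      (Subgroup.mul_mem _ hh'T hh'T)) hv
    have hy : y₁⁻¹ * v' * y₁ ∈ fm K m (wA 1) :=
      Subgroup.mul_mem _ (Subgroup.mul_mem _ (Subgroup.inv_mem _ hy₁m) hv') hy₁m
    obtain ⟨w, hw, ew⟩ := h.1.map_gM hK hy
    have eM : gM hK hy = gS hK 1 * gP hK hy * (gS hK 1)⁻¹ := Subtype.ext (by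
      show sO 1 * (y₁⁻¹ * v' * y₁) * sO 1 = sO 1 * (y₁⁻¹ * v' * y₁) * (sO 1)⁻¹
      rw [sO_inv])
    obtain ⟨t, u, et⟩ := mem_fm_B hy
    have eP : gP hK hy = gB hK t u := Subtype.ext et
    rw [eM, map_mul, map_mul, map_inv, eP, hB1, ← eP] at ew
    have e2 := congrArg Subtype.val ew
    rw [Subgroup.coe_mul, Subgroup.coe_mul, Subgroup.coe_inv, hn] at e2
    change u₀ * (h' * h') * sO 1 * y₁ * (y₁⁻¹ * v' * y₁) * (u₀ * (h' * h') * sO 1 * y₁)⁻¹ =
      sO 1 * w * sO 1 at e2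
    rw [show u₀ * (h' * h') * sO 1 * y₁ * (y₁⁻¹ * v' * y₁) * (u₀ * (h' * h') * sO 1 * y₁)⁻¹ =
      u₀ * ((h' * h') * (sO 1 * v' * (sO 1)⁻¹) * (h' * h')⁻¹) * u₀⁻¹ by group, sO_inv, ← ev,
      show (h' * h') * ((h' * h')⁻¹ * (sO 1 * v * sO 1) * (h' * h')⁻¹⁻¹) * (h' * h')⁻¹ =
        sO 1 * v * sO 1 by group, e, show u₀ * (b₀ * sO 1 * u₀) * u₀⁻¹ = u₀ * b₀ * sO 1 by group]
      at e2
    refine cell_ne hK (a := 1)
      (Subgroup.mul_mem _ (U1_le_borel_fx hm (fm_le_U1 _ hu₀m)) hb₀) ?_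
    rw [e2]
    exact conjFm_mem_V1 hw
  have hb1 : b = 1 := by
    obtain ⟨-, h2⟩ := yB_inj (hu₀1.trans yB_zero.symm)
    have := eq_of_add_eq_zero h2
    exact Units.ext (inv_eq_one.1 this.symm)
  have hc1 : (c : K) = 1 := by rw [← hb, hb1]; simp
  rintro ⟨x, hx⟩
  have hx' : x ∈ Subgroup.closure (gens K m) := by rwa [← G1_eq]
  revert hx
  induction hx' using Subgroup.closure_induction with
  | mem x hx =>
    intro hxG
    rcases hx with ⟨t, rfl | rfl⟩ | ⟨t, u, rfl | rfl⟩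
    · exact h.2 t
    · exact h.fix_hA hK t
    · exact hB1 t u
    · have := hneg t u
      rw [hc1, map_one, one_mul, one_mul, one_mul] at this
      exact this
  | one => intro _; exact map_one θ
  | mul a b ha hb iha ihb =>
    intro hab
    rw [← G1_eq] at ha hb
    show θ (⟨a, ha⟩ * ⟨b, hb⟩) = ⟨a, ha⟩ * ⟨b, hb⟩
    rw [map_mul, iha ha, ihb hb]
  | inv a ha iha =>
    intro hab
    rw [← G1_eq] at ha
    show θ (⟨a, ha⟩⁻¹) = ⟨a, ha⟩⁻¹
    rw [map_inv, iha ha]

end Finite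

end ReeF4

end Cfsg.Agent.Chev
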