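import Cfsg.Agent.ChevAut.ReeF4Out.Fix
import Cfsg.Prelude.Def_KGroupFacts

/-!
The outer automorphism group of `²F₄` consists of the field automorphisms.
-/

set_option autoImplicit false
set_option maxRecDepth 100000
set_option maxHeartbeats 1000000

namespace Cfsg.Agent.Chev

open Cfsg.Lie
open scoped MatrixGroups

universe u

namespace ReeF4

variable {K : Type u} [Field K] [CharP K 2] {m : ℕ}

theorem map_th (ρ : K →+* K) (t : K) : ρ (th K m t) = th K m (ρ t) := by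
  rw [th_apply, th_apply, map_pow]

theorem gmap_yA (ρ : K →+* K) (t : K) : gmap chevF4 ρ (yA m t) = yA m (ρ t) := by
  simp only [yA, W2, X, map_mul, gmap_xG facts_chevF4 facts_chevF4, map_th]

theorem gmap_yB (ρ : K →+* K) (t u : K) : gmap chevF4 ρ (yB m t u) = yB m (ρ t) (ρ u) := by
  simp only [yB, W4, X, map_mul, gmap_xG facts_chevF4 facts_chevF4, map_add, map_th, map_pow]

omit [CharP K 2] in
theorem gmap_nW (ρ : K →+* K) (ws : List (Fin 2)) :
    gmap chevF4 ρ (nW ws : GL chevF4.Idx K) = nW ws :=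
  gmap_nWord facts_chevF4 facts_chevF4 ρ _

omit [CharP K 2] in
theorem gmap_sO (ρ : K →+* K) (a : Fin 2) : gmap chevF4 ρ (sO a : GL chevF4.Idx K) = sO a :=
  gmap_nWord facts_chevF4 facts_chevF4 ρ _

theorem gmap_mem_G1 (ρ : K →+* K) {g : GL chevF4.Idx K} (hg : g ∈ twistedF4 K (2 ^ m)) :
    gmap chevF4 ρ g ∈ twistedF4 K (2 ^ m) := by
  rw [G1_eq] at hg ⊢
  refine ((Subgroup.closure_le ((Subgroup.closure (gens K m)).comap (gmap chevF4 ρ))).2 ?_) hg
  rintro g (⟨t, rfl | rfl⟩ | ⟨t, u, rfl | rfl⟩)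
  · exact Subgroup.subset_closure (Or.inl ⟨ρ t, Or.inl (gmap_yA ρ t)⟩)
  · exact Subgroup.subset_closure
      (Or.inl ⟨ρ t, Or.inr (by simp only [map_mul, gmap_sO, gmap_yA])⟩)
  · exact Subgroup.subset_closure (Or.inr ⟨ρ t, ρ u, Or.inl (gmap_yB ρ t u)⟩)
  · exact Subgroup.subset_closure
      (Or.inr ⟨ρ t, ρ u, Or.inr (by simp only [map_mul, gmap_sO, gmap_yB])⟩)

omit [CharP K 2] in
theorem gmap_symm_apply (ρ : K ≃+* K) (g : GL chevF4.Idx K) :
    gmap chevF4 ρ.symm.toRingHom (gmap chevF4 ρ.toRingHom g) = g := by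
  apply Units.ext
  ext a b
  rw [gmap_apply, gmap_apply]
  exact ρ.symm_apply_apply _

section Finite

variable [Fintype K] (hK : Fintype.card K = 2 ^ (2 * m + 1))
include hK

/-- A field automorphism of the group. -/
noncomputable def fAut (_hK : Fintype.card K = 2 ^ (2 * m + 1)) (ρ : K ≃+* K) :
    ↥(twistedF4 K (2 ^ m)) ≃* ↥(twistedF4 K (2 ^ m)) where
  toFun x := ⟨gmap chevF4 ρ.toRingHom x, gmap_mem_G1 _ x.2⟩
  invFun x := ⟨gmap chevF4 ρ.symm.toRingHom x, gmap_mem_G1 _ x.2⟩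
  left_inv x := Subtype.ext (gmap_symm_apply ρ x)
  right_inv x := Subtype.ext (gmap_symm_apply ρ.symm x)
  map_mul' x y := Subtype.ext (map_mul (gmap chevF4 ρ.toRingHom) _ _)

theorem fAut_gA (ρ : K ≃+* K) (t : K) : fAut hK ρ (gA hK t) = gA hK (ρ t) :=
  Subtype.ext (gmap_yA ρ.toRingHom t)

theorem fAut_symm_gA (ρ : K ≃+* K) (t : K) : (fAut hK ρ).symm (gA hK t) = gA hK (ρ.symm t) :=
  Subtype.ext (gmap_yA ρ.symm.toRingHom t)

theorem gmap_mem_U1 (ρ : K →+* K) {x : GL chevF4.Idx K} (hx : x ∈ U1 K m) :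
    gmap chevF4 ρ x ∈ U1 K m :=
  ⟨gmap_posUnipotent facts_chevF4 ρ hx.1,
    G1_le_fx (isTheta hK) (gmap_mem_G1 ρ (U1_le_G1 hx))⟩

theorem gmap_mem_V1 (ρ : K →+* K) {x : GL chevF4.Idx K} (hx : x ∈ V1 K m) :
    gmap chevF4 ρ x ∈ V1 K m := by
  rw [mem_V1] at hx ⊢
  have := gmap_mem_U1 hK ρ hx
  rwa [map_mul, map_mul, n0, gmap_nW, ← n0] at this

theorem fAut_norm (ρ : K ≃+* K) : Norm hK (fAut hK ρ) := fun x =>
  ⟨⟨fun h => by
      have := gmap_mem_U1 hK ρ.symm.toRingHom h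
      rwa [show ((fAut hK ρ x : ↥(twistedF4 K (2 ^ m))) : GL chevF4.Idx K) =
        gmap chevF4 ρ.toRingHom x from rfl, gmap_symm_apply] at this,
    gmap_mem_U1 hK ρ.toRingHom⟩,
  ⟨fun h => by
      have := gmap_mem_V1 hK ρ.symm.toRingHom h
      rwa [show ((fAut hK ρ x : ↥(twistedF4 K (2 ^ m))) : GL chevF4.Idx K) =
        gmap chevF4 ρ.toRingHom x from rfl, gmap_symm_apply] at this,
    gmap_mem_V1 hK ρ.toRingHom⟩⟩

theorem Norm.trans {θ φ : ↥(twistedF4 K (2 ^ m)) ≃* ↥(twistedF4 K (2 ^ m))} (h : Norm hK θ)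
    (h' : Norm hK φ) : Norm hK (θ.trans φ) := fun x =>
  ⟨(h' (θ x)).1.trans (h x).1, (h' (θ x)).2.trans (h x).2⟩

theorem norm_conjT (p : Kˣ × Kˣ) : Norm hK (MulAut.conj (gT hK p)) := by
  intro x
  have hp : ∀ p : Kˣ × Kˣ, tor m p ∈ T1 K m := fun p => ⟨p, rfl⟩
  have e : ((MulAut.conj (gT hK p) x : ↥(twistedF4 K (2 ^ m))) : GL chevF4.Idx K) =
      tor m p * x * (tor m p)⁻¹ := rfl
  rw [e]
  refine ⟨⟨fun h => ?_, T1_normalizes hK (hp p)⟩, ⟨fun h => ?_, T1_normalizes_V hK (hp p)⟩⟩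
  · have := T1_normalizes hK (Subgroup.inv_mem _ (hp p)) h
    simpa [mul_assoc] using this
  · have := T1_normalizes_V hK (Subgroup.inv_mem _ (hp p)) h
    simpa [mul_assoc] using this

theorem conjT_gA (p : Kˣ × Kˣ) (t : K) :
    MulAut.conj (gT hK p) (gA hK t) = gA hK (((p.1 ^ 2 * p.2⁻¹ : Kˣ) : K) * t) :=
  Subtype.ext (tor_conj_yA (isTheta hK) p t)

/-- Every automorphism is an inner one following a field automorphism. -/
theorem exists_decomp (hm1 : 1 ≤ m) (θ : ↥(twistedF4 K (2 ^ m)) ≃* ↥(twistedF4 K (2 ^ m))) :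
    ∃ (g : ↥(twistedF4 K (2 ^ m))) (ρ : K ≃+* K), ∀ y, θ y = g * fAut hK ρ y * g⁻¹ := by
  have hm := isTheta hK
  obtain ⟨x, θ₁, hx, h1⟩ := exists_normalised hK θ
  obtain ⟨c, σ, hs⟩ := h1.exists_sigma hK
  obtain ⟨d, hd⟩ := exists_sq hK c
  set p : Kˣ × Kˣ := (d⁻¹, 1) with hp
  set θ₃ := ((fAut hK σ).symm.trans θ₁).trans (MulAut.conj (gT hK p)) with hθ₃
  have h3 : FixA hK θ₃ := by
    refine ⟨(((fAut_norm hK σ).symm hK).trans hK h1).trans hK (norm_conjT hK p), fun t => ?_⟩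
    rw [hθ₃, MulEquiv.trans_apply, MulEquiv.trans_apply, fAut_symm_gA, (hs _).1, σ.apply_symm_apply,
      conjT_gA, ← mul_assoc, ← Units.val_mul, hp, hd]
    simp [inv_pow]
  obtain ⟨c', hc'⟩ := h3.exists_scal hK hm1
  obtain ⟨a, ha⟩ : ∃ a : Kˣ, (a : K) ^ 3 / th K m (a : K) ^ 4 = c' := by
    let φ : Kˣ →* Kˣ :=
      { toFun := fun a => a ^ 3 * (Units.map (th K m).toMonoidHom a ^ 4)⁻¹
        map_one' := by simp
        map_mul' := fun a b => by simp only [map_mul, mul_pow, mul_inv, mul_mul_mul_comm] }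
    have hφ : Function.Injective φ := by
      refine (injective_iff_map_eq_one φ).2 fun a ha => ?_
      have h4 : (a : K) ^ 3 = th K m (a : K) ^ 4 := congrArg Units.val (mul_inv_eq_one.1 ha)
      have h5 : th K m (a : K) ^ 3 = (a : K) ^ 2 := by
        rw [← map_pow, h4, map_pow]
        linear_combination ((a : K) + th K m (th K m (a : K)) ^ 2) * th_th hm (a : K)
      have h6 : th K m (a : K) = a := mul_left_cancel₀ (pow_ne_zero 2 (Units.ne_zero a)) (by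
        linear_combination -h4 - th K m (a : K) * h5)
      rw [h6] at h4
      exact Units.ext (mul_left_cancel₀ (pow_ne_zero 3 (Units.ne_zero a))
        (by rw [Units.val_one, mul_one, ← pow_succ]; exact h4.symm))
    obtain ⟨a, ha⟩ := Finite.injective_iff_surjective.1 hφ c'
    exact ⟨a, by rw [← ha]; simp [φ, div_eq_mul_inv]⟩
  set p' : Kˣ × Kˣ := (a⁻¹, (a ^ 2)⁻¹) with hp'
  set θ₄ := θ₃.trans (MulAut.conj (gT hK p')) with hθ₄
  have h4 : FixA hK θ₄ := by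
    refine ⟨h3.1.trans hK (norm_conjT hK p'), fun t => ?_⟩
    rw [hθ₄, MulEquiv.trans_apply, h3.2, conjT_gA]
    simp [hp', inv_pow]
  have hB : ∀ t u, θ₄ (gB hK t u) = gB hK t u := by
    intro t u
    rw [hθ₄, MulEquiv.trans_apply, hc']
    apply Subtype.ext
    show tor m p' * yB m _ _ * (tor m p')⁻¹ = yB m t u
    rw [tor_conj_yB hm, ← ha]
    have hth := th_th hm (a : K)
    have hne : th K m (th K m (a : K)) ≠ 0 := by simp
    congr 1
    · simp only [hp', Units.val_inv_eq_inv_val, Units.val_pow_eq_pow_val, map_inv₀, map_pow]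
      field_simp
    · simp only [hp', Units.val_inv_eq_inv_val, Units.val_pow_eq_pow_val, map_inv₀, map_pow,
        map_div₀]
      rw [show th K m (th K m (a : K)) ^ 4 = (a : K) ^ 2 by
        linear_combination ((a : K) + th K m (th K m (a : K)) ^ 2) * hth]
      field_simp
  have hid := h4.eq_one hK hm1 hB
  refine ⟨x * (gT hK p' * gT hK p)⁻¹, σ, fun y => ?_⟩
  have e := hid (fAut hK σ y)
  rw [hθ₄, hθ₃, MulEquiv.trans_apply, MulEquiv.trans_apply, MulEquiv.trans_apply,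
    MulEquiv.symm_apply_apply, MulAut.conj_apply, MulAut.conj_apply] at e
  rw [hx, ← e]
  group

theorem fAut_eq_of_inn {ρ ρ' : K ≃+* K} {g : ↥(twistedF4 K (2 ^ m))}
    (h : ∀ y, fAut hK ρ' y = g * fAut hK ρ y * g⁻¹) : ρ = ρ' := by
  have hm := isTheta hK
  have e : ((fAut hK ρ).symm.trans (fAut hK ρ')) = MulAut.conj g := MulEquiv.ext fun y => by
    rw [MulEquiv.trans_apply, h, MulEquiv.apply_symm_apply, MulAut.conj_apply]
  have hN := ((fAut_norm hK ρ).symm hK).trans hK (fAut_norm hK ρ')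
  rw [e] at hN
  have hgT : (g : GL chevF4.Idx K) ∈ T1 K m := mem_T1_of_normalizes hK (G1_le_fx hm g.2)
    (fun z hz => (hN ⟨z, U1_le_G1 hz⟩).1.2 hz)
    (fun z hz => (hN ⟨z, by
      have := Subgroup.mul_mem (twistedF4 K (2 ^ m))
        (Subgroup.mul_mem _ (nW_mem_G1 (wd 15)) (U1_le_G1 (mem_V1.1 hz))) (nW_mem_G1 (wd 15))
      rwa [← n0, n0_n0] at this⟩).2.2 hz)
  obtain ⟨p, hp⟩ := hgT
  have hgp : g = gT hK p := Subtype.ext hp.symm
  have key : ∀ t, ρ' t = ((p.1 ^ 2 * p.2⁻¹ : Kˣ) : K) * ρ t := fun t => by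
    have h1 := h (gA hK t)
    rw [fAut_gA, fAut_gA, hgp, ← MulAut.conj_apply, conjT_gA] at h1
    exact yA_inj (congrArg Subtype.val h1)
  have h1 := key 1
  rw [map_one, map_one, mul_one] at h1
  exact RingEquiv.ext fun t => by rw [key t, ← h1, one_mul]

/-- The number of outer automorphisms. -/
theorem card_out (hm1 : 1 ≤ m) :
    Nat.card (Cfsg.Out ↥(twistedF4 K (2 ^ m))) = Nat.card (K ≃+* K) := by
  set mk := QuotientGroup.mk' (Cfsg.Inn ↥(twistedF4 K (2 ^ m)))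
  let Φ : (K ≃+* K) → Cfsg.Out ↥(twistedF4 K (2 ^ m)) :=
    fun ρ => mk (fAut hK ρ : MulAut ↥(twistedF4 K (2 ^ m)))
  refine (Nat.card_congr (Equiv.ofBijective Φ ⟨fun ρ ρ' e => ?_, fun z => ?_⟩)).symm
  · have h' : (fAut hK ρ' : MulAut ↥(twistedF4 K (2 ^ m))) *
        (fAut hK ρ : MulAut ↥(twistedF4 K (2 ^ m)))⁻¹ ∈ Cfsg.Inn ↥(twistedF4 K (2 ^ m)) := by
      refine (QuotientGroup.eq_one_iff _).1 ?_
      show mk (_ * _⁻¹) = 1
      rw [map_mul, map_inv]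
      exact mul_inv_eq_one.2 e.symm
    obtain ⟨g, hg⟩ := h'
    refine fAut_eq_of_inn hK (g := g) fun y => ?_
    have := DFunLike.congr_fun hg (fAut hK ρ y)
    rw [MulAut.conj_apply] at this
    rw [this]
    show fAut hK ρ' y = fAut hK ρ' ((fAut hK ρ).symm (fAut hK ρ y))
    rw [MulEquiv.symm_apply_apply]
  · obtain ⟨θ, rfl⟩ := QuotientGroup.mk'_surjective _ z
    obtain ⟨g, ρ, hg⟩ := exists_decomp hK hm1 θ
    refine ⟨ρ, ?_⟩
    have e : θ = MulAut.conj g * (fAut hK ρ : MulAut ↥(twistedF4 K (2 ^ m))) :=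
      MulEquiv.ext fun y => hg y
    show mk _ = mk θ
    rw [e, map_mul mk, show mk (MulAut.conj g) = 1 from (QuotientGroup.eq_one_iff _).2 ⟨g, rfl⟩,
      one_mul]

end Finite

end ReeF4

end Cfsg.Agent.Chev
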